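import Cfsg.Agent.H934.OutB
import Cfsg.Agent.S0493

/-!
# From `|T| < |C_T(α)|³` and the bound for `Out T` to `|Aut T| ≤ |C_T(α)|⁵`
-/

set_option autoImplicit false

namespace Cfsg.Agent.H481.TBound

open Cfsg.Agent.H934.OutB

universe u

theorem pow_nine_le (o : ℕ) (ho : 16 ≤ o) : o ^ 9 ≤ 64 * 4 ^ o := by
  induction o, ho using Nat.le_induction with
  | base => norm_num
  | succ o ho ih =>
    have h1 : 16 * (o + 1) ≤ 17 * o := by omega
    have h2 : 16 ^ 9 * (o + 1) ^ 9 ≤ 17 ^ 9 * o ^ 9 := by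
      rw [← mul_pow, ← mul_pow]
      exact Nat.pow_le_pow_left h1 9
    have h3 : (17 : ℕ) ^ 9 ≤ 4 * 16 ^ 9 := by norm_num
    have h4 : 16 ^ 9 * (o + 1) ^ 9 ≤ 16 ^ 9 * (4 * o ^ 9) := by
      calc 16 ^ 9 * (o + 1) ^ 9 ≤ 17 ^ 9 * o ^ 9 := h2
        _ ≤ (4 * 16 ^ 9) * o ^ 9 := Nat.mul_le_mul h3 le_rfl
        _ = 16 ^ 9 * (4 * o ^ 9) := by ring
    have h5 : (o + 1) ^ 9 ≤ 4 * o ^ 9 := Nat.le_of_mul_le_mul_left h4 (by norm_num)
    calc (o + 1) ^ 9 ≤ 4 * o ^ 9 := h5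
      _ ≤ 4 * (64 * 4 ^ o) := Nat.mul_le_mul le_rfl ih
      _ = 64 * 4 ^ (o + 1) := by ring

theorem arith {N o : ℕ} (hN : 60 ≤ N) (h : 8 * 2 ^ o ≤ N ^ 3) : o ^ 3 ≤ N ^ 2 := by
  by_contra hcon
  push Not at hcon
  have h16 : 16 ≤ o := by
    by_contra hlt
    push Not at hlt
    have h1 : o ^ 3 ≤ 15 ^ 3 := Nat.pow_le_pow_left (by omega) 3
    have h2 : 60 ^ 2 ≤ N ^ 2 := Nat.pow_le_pow_left hN 2
    norm_num at h1 h2
    omega
  have h1 : 64 * 4 ^ o ≤ N ^ 6 := by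
    calc 64 * 4 ^ o = (8 * 2 ^ o) ^ 2 := by
          rw [mul_pow, ← pow_mul, mul_comm o 2, pow_mul]; norm_num
      _ ≤ (N ^ 3) ^ 2 := Nat.pow_le_pow_left h 2
      _ = N ^ 6 := by ring
  have h2 : N ^ 6 < o ^ 9 := by
    calc N ^ 6 = (N ^ 2) ^ 3 := by ring
      _ < (o ^ 3) ^ 3 := Nat.pow_lt_pow_left hcon (by norm_num)
      _ = o ^ 9 := by ring
  have h3 := pow_nine_le o h16
  omega

section

variable {T : Type u} [Group T] [Finite T] [IsSimpleGroup T]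

theorem sixty_le (hna : ¬ IsMulCommutative T) : 60 ≤ Nat.card T := by
  by_contra h
  push Not at h
  have hc : ¬ IsCyclic T := by
    intro hc
    apply hna
    exact ⟨⟨fun a b => by
      let _ : CommGroup T := IsCyclic.commGroup
      exact mul_comm a b⟩⟩
  have := Cfsg.Agent.S0493.result (G := T) hc (by omega)
  omega

theorem out_cube_le (hna : ¬ IsMulCommutative T) (hB : Bd T) :
    Nat.card (Cfsg.Out T) ^ 3 ≤ Nat.card T ^ 2 := by
  apply arith (sixty_le hna)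
  obtain ⟨x, hx⟩ := exists_ne (1 : T)
  have hH : Subgroup.zpowers x ≠ ⊤ := by
    intro h
    apply hna
    refine ⟨⟨fun a b => ?_⟩⟩
    have ha : a ∈ Subgroup.zpowers x := by rw [h]; trivial
    have hb : b ∈ Subgroup.zpowers x := by rw [h]; trivial
    obtain ⟨i, rfl⟩ := ha
    obtain ⟨j, rfl⟩ := hb
    change x ^ i * x ^ j = x ^ j * x ^ i
    rw [← zpow_add, ← zpow_add, add_comm]
  have h1 := hB _ hH
  have h2 : 2 ≤ Nat.card (Subgroup.zpowers x) := by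
    rw [Nat.card_zpowers]
    have h3 : 0 < orderOf x := orderOf_pos x
    have h4 : orderOf x ≠ 1 := by rwa [ne_eq, orderOf_eq_one_iff]
    omega
  have h3 : 2 * (Subgroup.zpowers x).index ≤ Nat.card T := by
    rw [← Subgroup.card_mul_index (Subgroup.zpowers x)]
    exact Nat.mul_le_mul h2 le_rfl
  calc 8 * 2 ^ Nat.card (Cfsg.Out T) ≤ 8 * (Subgroup.zpowers x).index ^ 3 := Nat.mul_le_mul le_rfl h1
    _ = (2 * (Subgroup.zpowers x).index) ^ 3 := by ring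
    _ ≤ Nat.card T ^ 3 := Nat.pow_le_pow_left h3 3

theorem aut_cube_le (hna : ¬ IsMulCommutative T) (hB : Bd T) :
    Nat.card (MulAut T) ^ 3 ≤ Nat.card T ^ 5 := by
  rw [← card_out_mul T hna, mul_pow]
  calc Nat.card (Cfsg.Out T) ^ 3 * Nat.card T ^ 3 ≤ Nat.card T ^ 2 * Nat.card T ^ 3 :=
        Nat.mul_le_mul (out_cube_le hna hB) le_rfl
    _ = Nat.card T ^ 5 := by ring

theorem aut_sq_le (hna : ¬ IsMulCommutative T) (hB : Bd T) :
    Nat.card (MulAut T) ^ 2 ≤ Nat.card T ^ 5 := by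
  have h1 := aut_cube_le hna hB
  have h2 : (Nat.card (MulAut T) ^ 2) ^ 3 ≤ (Nat.card T ^ 5) ^ 3 := by
    calc (Nat.card (MulAut T) ^ 2) ^ 3 = (Nat.card (MulAut T) ^ 3) ^ 2 := by ring
      _ ≤ (Nat.card T ^ 5) ^ 2 := Nat.pow_le_pow_left h1 2
      _ ≤ (Nat.card T ^ 5) ^ 3 := Nat.pow_le_pow_right (pow_pos Nat.card_pos 5) (by norm_num)
  exact (Nat.pow_le_pow_iff_left (by norm_num)).1 h2

/-- `|Aut T| ≤ |C_T(β)|⁵` for `β² = 1` -/
theorem aut_le (hna : ¬ IsMulCommutative T) (hB : Bd T)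
    (hC : ∀ α : MulAut T, orderOf α = 2 → Nat.card T < Nat.card {t : T // α t = t} ^ 3)
    (β : MulAut T) (hβ : ∀ x, β (β x) = x) :
    Nat.card (MulAut T) ≤ Nat.card {t : T // β t = t} ^ 5 := by
  have h1 := aut_cube_le hna hB
  have h3 : Nat.card T ≤ Nat.card {t : T // β t = t} ^ 3 := by
    by_cases hb : β = 1
    · subst hb
      have h4 : Nat.card {t : T // (1 : MulAut T) t = t} = Nat.card T :=
        Nat.card_congr (Equiv.subtypeUnivEquiv (fun _ => rfl))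
      rw [h4]
      exact Nat.le_self_pow (by norm_num) _
    · refine (hC β (orderOf_eq_prime ?_ hb)).le
      rw [pow_two]
      ext x
      exact hβ x
  have h4 : Nat.card (MulAut T) ^ 3 ≤ (Nat.card {t : T // β t = t} ^ 5) ^ 3 := by
    calc Nat.card (MulAut T) ^ 3 ≤ Nat.card T ^ 5 := h1
      _ ≤ (Nat.card {t : T // β t = t} ^ 3) ^ 5 := Nat.pow_le_pow_left h3 5
      _ = (Nat.card {t : T // β t = t} ^ 5) ^ 3 := by ring
  exact (Nat.pow_le_pow_iff_left (by norm_num)).1 h4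

end

end Cfsg.Agent.H481.TBound
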