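import Cfsg.Agent.H481.OddGen

/-!
# Odd-order elements inverted by an automorphism with square one: quotients

`J α` is the set of elements of odd order inverted by `α`; `cm α c = c α(c)⁻¹`; `Full α` says `[G, α] = G`.
-/

set_option autoImplicit false

namespace Cfsg.Agent.H481.Inv

universe u

/-! ### Odd parts -/

/-- an exponent `e` such that `g ↦ g ^ e` is the projection to the odd part for all `g` with `g ^ n = 1` -/
structure OddExp (n e : ℕ) : Prop where
  ex : ∃ a r : ℕ, n = 2 ^ a * r ∧ Odd r ∧ 2 ^ a ∣ e ∧ e ≡ 1 [MOD r]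

theorem exists_oddExp {n : ℕ} (hn : n ≠ 0) : ∃ e, OddExp n e := by
  obtain ⟨a, r, hr, hnr⟩ := Nat.exists_eq_two_pow_mul_odd hn
  have hc : Nat.Coprime (2 ^ a) r := Nat.Coprime.pow_left a (Nat.coprime_two_left.2 hr)
  obtain ⟨e, he1, he2⟩ := Nat.chineseRemainder hc 0 1
  exact ⟨e, ⟨a, r, hnr, hr, (Nat.modEq_zero_iff_dvd.1 he1), he2⟩⟩

theorem OddExp.odd {n e : ℕ} (h : OddExp n e) {H : Type*} [Group H] {g : H} (hg : g ^ n = 1) :
    Odd (orderOf (g ^ e)) := by
  obtain ⟨a, r, hn, hr, ⟨b, hb⟩, _⟩ := h.ex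
  have h1 : (g ^ e) ^ r = 1 := by
    rw [← pow_mul, hb]
    have : 2 ^ a * b * r = n * b := by rw [hn]; ring
    rw [this, pow_mul, hg, one_pow]
  exact Odd.of_dvd_nat hr (orderOf_dvd_of_pow_eq_one h1)

theorem OddExp.eq_self {n e : ℕ} (h : OddExp n e) {H : Type*} [Group H] {g : H} (hg : g ^ n = 1)
    (ho : Odd (orderOf g)) : g ^ e = g := by
  obtain ⟨a, r, hn, hr, _, he⟩ := h.ex
  have h1 : orderOf g ∣ r := by
    have h2 : orderOf g ∣ 2 ^ a * r := by rw [← hn]; exact orderOf_dvd_of_pow_eq_one hg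
    exact (Nat.Coprime.pow_right a (Nat.coprime_two_right.2 ho)).dvd_of_dvd_mul_left h2
  have h3 : g ^ e = g ^ 1 := by
    rw [pow_eq_pow_iff_modEq]
    exact he.of_dvd h1
  rw [h3, pow_one]

section

variable {G : Type u} [Group G] (α : MulAut G)

/-- the elements of odd order inverted by `α` -/
def J : Set G := {g : G | Odd (orderOf g) ∧ α g = g⁻¹}

/-- the twisted commutator -/
def cm (c : G) : G := c * (α c)⁻¹

/-- `[G, α] = G` -/
def Full : Prop := Subgroup.closure (Set.range (fun c : G => c * (α c)⁻¹)) = ⊤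

/-- the fixed points -/
def fixed : Subgroup G where
  carrier := {g | α g = g}
  one_mem' := map_one α
  mul_mem' := by
    intro a b ha hb
    change α (a * b) = a * b
    rw [map_mul, show α a = a from ha, show α b = b from hb]
  inv_mem' := by
    intro a ha
    change α a⁻¹ = a⁻¹
    rw [map_inv, show α a = a from ha]

theorem mem_fixed {g : G} : g ∈ fixed α ↔ α g = g := Iff.rfl

theorem mem_J {g : G} : g ∈ J α ↔ Odd (orderOf g) ∧ α g = g⁻¹ := Iff.rfl

theorem one_mem_J : (1 : G) ∈ J α := by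
  refine ⟨by simp, by simp⟩

theorem inv_mem_J {g : G} (h : g ∈ J α) : g⁻¹ ∈ J α := by
  refine ⟨by rw [orderOf_inv]; exact h.1, by rw [map_inv, h.2]⟩

theorem pow_mem_J {g : G} (h : g ∈ J α) (n : ℕ) : g ^ n ∈ J α := by
  refine ⟨Odd.of_dvd_nat h.1 (orderOf_pow_dvd n), by rw [map_pow, h.2, inv_pow]⟩

variable {α}

theorem cm_inv (h2 : ∀ x, α (α x) = x) (c : G) : α (cm α c) = (cm α c)⁻¹ := by
  simp only [cm, map_mul, map_inv, h2, mul_inv_rev, inv_inv]

/-- every element of `J` is the square of an element `h` of `J` and equal to `cm α h` -/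
theorem exists_sqrt {x : G} (h : x ∈ J α) : ∃ y ∈ J α, y * y = x ∧ cm α y = x ∧ y ∈ Subgroup.zpowers x := by
  obtain ⟨k, hk⟩ := h.1
  have hx : x ^ (2 * k + 1) = 1 := by rw [← hk]; exact pow_orderOf_eq_one x
  refine ⟨x ^ (k + 1), pow_mem_J α h _, ?_, ?_, Subgroup.pow_mem _ (Subgroup.mem_zpowers x) _⟩
  · rw [← pow_add, show k + 1 + (k + 1) = (2 * k + 1) + 1 by ring, pow_succ, hx, one_mul]
  · rw [cm, (pow_mem_J α h (k + 1)).2, inv_inv, ← pow_add, show k + 1 + (k + 1) = (2 * k + 1) + 1 by ring,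
      pow_succ, hx, one_mul]

theorem J_subset_range {x : G} (h : x ∈ J α) : ∃ c, cm α c = x := by
  obtain ⟨y, _, _, h3, _⟩ := exists_sqrt h
  exact ⟨y, h3⟩

/-- `J` generates `G` when `[G, α] = G` -/
theorem closure_J [Finite G] (h2 : ∀ x, α (α x) = x) (hG : Full α) : Subgroup.closure (J α) = ⊤ := by
  by_cases h1 : α = 1
  · subst h1
    have h3 : (⊤ : Subgroup G) = ⊥ := by
      have h4 := hG
      rw [Full] at h4
      rw [← h4, eq_bot_iff, Subgroup.closure_le]
      rintro _ ⟨c, rfl⟩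
      simp
    rw [h3]
    exact eq_bot_iff.2 (by rw [← h3]; exact le_top)
  · have hord : orderOf α = 2 := by
      apply orderOf_eq_prime _ h1
      rw [pow_two]
      ext x
      exact h2 x
    exact Cfsg.Agent.H481.OddGen.closure_odd α hord hG

/-- conversely if `J` generates `G` then `[G, α] = G` -/
theorem full_of_closure_J (h : Subgroup.closure (J α) = ⊤) : Full α := by
  rw [Full, eq_top_iff, ← h, Subgroup.closure_le]
  intro x hx
  obtain ⟨c, hc⟩ := J_subset_range hx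
  exact Subgroup.subset_closure ⟨c, hc⟩

/-! ### Quotients -/

variable (α)

/-- the automorphism of the quotient -/
noncomputable def qa (N : Subgroup G) [N.Normal] (hN : N.map α.toMonoidHom = N) : MulAut (G ⧸ N) :=
  QuotientGroup.congr N N α hN

variable {α}

theorem qa_mk {N : Subgroup G} [N.Normal] (hN : N.map α.toMonoidHom = N) (g : G) :
    qa α N hN (g : G ⧸ N) = (α g : G) := rfl

theorem qa_qa (h2 : ∀ x, α (α x) = x) {N : Subgroup G} [N.Normal] (hN : N.map α.toMonoidHom = N) (x : G ⧸ N) :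
    qa α N hN (qa α N hN x) = x := by
  induction x using QuotientGroup.induction_on with
  | H g => rw [qa_mk, qa_mk, h2]

theorem map_eq_of (h2 : ∀ x, α (α x) = x) {N : Subgroup G} (h : ∀ x ∈ N, α x ∈ N) :
    N.map α.toMonoidHom = N := by
  apply le_antisymm
  · rintro _ ⟨x, hx, rfl⟩
    exact h x hx
  · intro x hx
    exact ⟨α x, h x hx, h2 x⟩

theorem apply_mem_of {N : Subgroup G} (h : N.map α.toMonoidHom = N) {x : G} (hx : x ∈ N) : α x ∈ N := by
  have : α x ∈ N.map α.toMonoidHom := ⟨x, hx, rfl⟩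
  rwa [h] at this

theorem full_qa (hG : Full α) {N : Subgroup G} [N.Normal] (hN : N.map α.toMonoidHom = N) : Full (qa α N hN) := by
  rw [Full] at hG ⊢
  have h1 := congrArg (Subgroup.map (QuotientGroup.mk' N)) hG
  rw [MonoidHom.map_closure, Subgroup.map_top_of_surjective _ (QuotientGroup.mk'_surjective N)] at h1
  rw [eq_top_iff, ← h1]
  apply Subgroup.closure_mono
  rintro _ ⟨_, ⟨c, rfl⟩, rfl⟩
  exact ⟨(c : G ⧸ N), rfl⟩

theorem image_mem_J {N : Subgroup G} [N.Normal] (hN : N.map α.toMonoidHom = N) {x : G} (hx : x ∈ J α) :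
    (x : G ⧸ N) ∈ J (qa α N hN) := by
  refine ⟨Odd.of_dvd_nat hx.1 (orderOf_map_dvd (QuotientGroup.mk' N) x), ?_⟩
  rw [qa_mk, hx.2]
  rfl

/-- every element of `J(G/N)` is the image of an element of `J(G)` -/
theorem exists_lift [Finite G] (h2 : ∀ x, α (α x) = x) {N : Subgroup G} [N.Normal]
    (hN : N.map α.toMonoidHom = N) {x : G ⧸ N} (hx : x ∈ J (qa α N hN)) : ∃ y ∈ J α, (y : G ⧸ N) = x := by
  obtain ⟨c, hc⟩ := J_subset_range hx
  obtain ⟨g, rfl⟩ := QuotientGroup.mk_surjective c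
  obtain ⟨e, he⟩ := exists_oddExp (n := Nat.card G) Nat.card_pos.ne'
  have h3 : ((cm α g : G) : G ⧸ N) = x := by rw [← hc]; rfl
  refine ⟨(cm α g) ^ e, ⟨he.odd (pow_card_eq_one' (x := cm α g)), ?_⟩, ?_⟩
  · rw [map_pow, cm_inv h2, inv_pow]
  · have h4 : ((cm α g ^ e : G) : G ⧸ N) = x ^ e := by rw [← h3]; rfl
    rw [h4]
    apply he.eq_self _ hx.1
    rw [← h3]
    have : ((cm α g : G) : G ⧸ N) ^ Nat.card G = ((cm α g ^ Nat.card G : G) : G ⧸ N) := rfl
    rw [this, pow_card_eq_one']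
    rfl

theorem card_J_qa_le [Finite G] (h2 : ∀ x, α (α x) = x) {N : Subgroup G} [N.Normal]
    (hN : N.map α.toMonoidHom = N) : Nat.card (J (qa α N hN)) ≤ Nat.card (J α) := by
  apply Nat.card_le_card_of_surjective
    (fun x : J α => (⟨((x : G) : G ⧸ N), image_mem_J hN x.2⟩ : J (qa α N hN)))
  rintro ⟨x, hx⟩
  obtain ⟨y, hy, rfl⟩ := exists_lift h2 hN hx
  exact ⟨⟨y, hy⟩, rfl⟩

/-- **Injectivity of `J(G) → J(G/N)` forces `N` to be central.** -/
theorem le_center_of_inj [Finite G] (h2 : ∀ x, α (α x) = x) (hG : Full α) {N : Subgroup G} (hNn : N.Normal)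
    (hN : ∀ x ∈ N, α x ∈ N) (hinj : ∀ x ∈ J α, ∀ y ∈ J α, x⁻¹ * y ∈ N → x = y) :
    N ≤ Subgroup.center G := by
  have hJtop := closure_J h2 hG
  obtain ⟨e, he⟩ := exists_oddExp (n := Nat.card G) Nat.card_pos.ne'
  -- an element commuting with `J` is central
  have hcen : ∀ z : G, (∀ x ∈ J α, x * z = z * x) → z ∈ Subgroup.center G := by
    intro z hz
    have h1 : Subgroup.closure (J α) ≤ Subgroup.centralizer {z} := by
      rw [Subgroup.closure_le]
      intro x hx
      rw [SetLike.mem_coe, Subgroup.mem_centralizer_singleton_iff]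
      exact hz x hx
    rw [hJtop] at h1
    rw [Subgroup.mem_center_iff]
    intro g
    exact Subgroup.mem_centralizer_singleton_iff.1 (h1 (Subgroup.mem_top g))
  -- main computation
  have key : ∀ n ∈ N, ∀ x ∈ J α, x⁻¹ * n * x * (α n)⁻¹ * x = x * (x⁻¹ * n * x * (α n)⁻¹) := by
    intro n hn x hx
    obtain ⟨h, hhJ, hhx, hcm, _⟩ := exists_sqrt hx
    set y := cm α (n * h) with hy
    have hyeq : y = n * x * (α n)⁻¹ := by
      rw [hy, cm, map_mul, mul_inv_rev]
      have : h * (α h)⁻¹ = x := hcm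
      calc n * h * ((α h)⁻¹ * (α n)⁻¹) = n * (h * (α h)⁻¹) * (α n)⁻¹ := by group
        _ = n * x * (α n)⁻¹ := by rw [this]
    have hyinv : α y = y⁻¹ := cm_inv h2 _
    have hyJ : y ^ e ∈ J α := ⟨he.odd pow_card_eq_one', by rw [map_pow, hyinv, inv_pow]⟩
    -- the images agree
    have hxe : x ^ e = x := he.eq_self pow_card_eq_one' hx.1
    have hmem : x⁻¹ * y ^ e ∈ N := by
      have := hNn
      rw [← QuotientGroup.eq]
      have h3 : (y : G ⧸ N) = (x : G ⧸ N) := by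
        rw [QuotientGroup.eq, hyeq]
        have : (n * x * (α n)⁻¹)⁻¹ * x = α n * (x⁻¹ * n⁻¹ * x) := by group
        rw [this]
        apply N.mul_mem (hN n hn)
        have := hNn.conj_mem n⁻¹ (N.inv_mem hn) x⁻¹
        simpa using this
      have h4 : ((y ^ e : G) : G ⧸ N) = (y : G ⧸ N) ^ e := rfl
      rw [h4, h3]
      have h5 : (x : G ⧸ N) ^ e = ((x ^ e : G) : G ⧸ N) := rfl
      rw [h5, hxe]
    have hye : x = y ^ e := hinj x hx _ hyJ hmem
    -- so `y` commutes with `x`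
    have hcomm : y * x = x * y := by
      rw [hye]; exact (Commute.refl y).pow_right e
    have h6 : x⁻¹ * y = x⁻¹ * n * x * (α n)⁻¹ := by rw [hyeq]; group
    rw [← h6]
    calc x⁻¹ * y * x = x⁻¹ * (y * x) := by group
      _ = x⁻¹ * (x * y) := by rw [hcomm]
      _ = x * (x⁻¹ * y) := by group
  -- `n α(n)⁻¹` is central
  have hz : ∀ n ∈ N, n * (α n)⁻¹ ∈ Subgroup.center G := by
    intro n hn
    apply hcen
    intro x hx
    -- apply `key` to `x` and `x^2`
    have k1 := key n hn x hx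
    have k2' := key n hn (x ^ 2) (pow_mem_J α hx 2)
    set a := x⁻¹ * n * x * (α n)⁻¹ with ha
    set b := (x ^ 2)⁻¹ * n * x ^ 2 * (α n)⁻¹ with hb
    -- `b` commutes with `x`, as `x` is a power of `x^2`
    have k2 : b * x = x * b := by
      obtain ⟨k, hk⟩ := hx.1
      have hxk : (x ^ 2) ^ (k + 1) = x := by
        rw [← pow_mul, show 2 * (k + 1) = (2 * k + 1) + 1 by ring, pow_succ, ← hk, pow_orderOf_eq_one, one_mul]
      have hc : Commute b (x ^ 2) := k2'
      have := hc.pow_right (k + 1)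
      rw [hxk] at this
      exact this
    -- `b a⁻¹ = x⁻¹ (x⁻¹ n x n⁻¹) x`
    have hba : b * a⁻¹ = x⁻¹ * (x⁻¹ * n * x * n⁻¹) * x := by
      rw [hb, ha]; group
    have ca : Commute a x := k1
    have cb : Commute b x := k2
    have cba : Commute (b * a⁻¹) x := cb.mul_left ca.inv_left
    have cc : Commute (x⁻¹ * n * x * n⁻¹) x := by
      rw [hba] at cba
      have h7 : x * (x⁻¹ * (x⁻¹ * n * x * n⁻¹) * x) * x⁻¹ = x⁻¹ * n * x * n⁻¹ := by group
      have h8 : Commute (x * (x⁻¹ * (x⁻¹ * n * x * n⁻¹) * x) * x⁻¹) x := by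
        have := cba
        exact ((Commute.refl x).mul_left this).mul_left (Commute.refl x).inv_left
      rwa [h7] at h8
    have h9 : n * (α n)⁻¹ = (x⁻¹ * n * x * n⁻¹)⁻¹ * a := by rw [ha]; group
    rw [h9]
    exact (cc.inv_left.mul_left ca).symm
  -- conclusion
  intro n hn
  have hzn := hz n hn
  apply hcen
  intro x hx
  set w := n * x * n⁻¹ * x⁻¹ with hw
  obtain ⟨h, _, _, hcm, _⟩ := exists_sqrt hx
  set z := n * (α n)⁻¹ with hzd
  have hαn : α n = z⁻¹ * n := by rw [hzd]; group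
  have hzc : ∀ g, g * z = z * g := Subgroup.mem_center_iff.1 hzn
  have hzic : ∀ g, g * z⁻¹ = z⁻¹ * g := Subgroup.mem_center_iff.1 (Subgroup.inv_mem _ hzn)
  -- `w` is central
  have hwc : w ∈ Subgroup.center G := by
    have hn' : h⁻¹ * n * h ∈ N := by
      have := hNn.conj_mem n hn h⁻¹
      simpa using this
    have h1 := hz _ hn'
    have h3 : h⁻¹ * n * h * (α (h⁻¹ * n * h))⁻¹ = h⁻¹ * (w * z) * h := by
      have hxh : x = h * (α h)⁻¹ := hcm.symm
      have h4 : α (h⁻¹ * n * h) = z⁻¹ * ((α h)⁻¹ * n * α h) := by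
        rw [map_mul, map_mul, map_inv, hαn]
        have := hzic (α h)⁻¹
        calc (α h)⁻¹ * (z⁻¹ * n) * α h = ((α h)⁻¹ * z⁻¹) * n * α h := by group
          _ = (z⁻¹ * (α h)⁻¹) * n * α h := by rw [this]
          _ = z⁻¹ * ((α h)⁻¹ * n * α h) := by group
      rw [h4, hw, hxh]
      have h5 : (z⁻¹ * ((α h)⁻¹ * n * α h))⁻¹ = ((α h)⁻¹ * n⁻¹ * α h) * z := by group
      rw [h5]
      have h6 := hzc (h⁻¹ * n * h * ((α h)⁻¹ * n⁻¹ * α h))
      calc h⁻¹ * n * h * ((α h)⁻¹ * n⁻¹ * α h * z) = (h⁻¹ * n * h * ((α h)⁻¹ * n⁻¹ * α h)) * z := by group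
        _ = h⁻¹ * (n * (h * (α h)⁻¹) * n⁻¹ * (h * (α h)⁻¹)⁻¹) * (h * z) := by group
        _ = h⁻¹ * (n * (h * (α h)⁻¹) * n⁻¹ * (h * (α h)⁻¹)⁻¹) * (z * h) := by rw [hzc h]
        _ = h⁻¹ * (n * (h * (α h)⁻¹) * n⁻¹ * (h * (α h)⁻¹)⁻¹ * z) * h := by group
    rw [h3] at h1
    have h7 : w * z ∈ Subgroup.center G := by
      have := (inferInstance : (Subgroup.center G).Normal).conj_mem _ h1 h
      have h8 : h * (h⁻¹ * (w * z) * h) * h⁻¹ = w * z := by group
      rwa [h8] at this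
    have h9 : w = (w * z) * z⁻¹ := by group
    rw [h9]
    exact Subgroup.mul_mem _ h7 (Subgroup.inv_mem _ hzn)
  have hwcomm : ∀ g, g * w = w * g := Subgroup.mem_center_iff.1 hwc
  have hwx : n * x * n⁻¹ = w * x := by rw [hw]; group
  have hwinv : α w = w⁻¹ := by
    have h1 : α w = n * x⁻¹ * n⁻¹ * x := by
      rw [hw]
      simp only [map_mul, map_inv, hαn, hx.2, inv_inv, mul_inv_rev]
      have e1 := hzc (n * x⁻¹ * n⁻¹)
      calc z⁻¹ * n * x⁻¹ * (n⁻¹ * z) * x = z⁻¹ * ((n * x⁻¹ * n⁻¹) * z) * x := by group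
        _ = z⁻¹ * (z * (n * x⁻¹ * n⁻¹)) * x := by rw [e1]
        _ = n * x⁻¹ * n⁻¹ * x := by group
    rw [h1]
    have h3 : n * x⁻¹ * n⁻¹ = (w * x)⁻¹ := by rw [← hwx]; group
    rw [h3, mul_inv_rev]
    have h4 : w⁻¹ * x = x * w⁻¹ := by
      have := hwcomm x
      calc w⁻¹ * x = w⁻¹ * (x * w) * w⁻¹ := by group
        _ = w⁻¹ * (w * x) * w⁻¹ := by rw [this]
        _ = x * w⁻¹ := by group
    rw [mul_assoc, h4]
    group
  have hwodd : Odd (orderOf w) := by
    apply Odd.of_dvd_nat hx.1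
    apply orderOf_dvd_of_pow_eq_one
    have hc : Commute w x := (hwcomm x).symm
    have h1 : (w * x) ^ orderOf x = 1 := by
      rw [← hwx, conj_pow, pow_orderOf_eq_one]; group
    rw [hc.mul_pow, pow_orderOf_eq_one, mul_one] at h1
    exact h1
  have hwN : w ∈ N := by
    have h1 : w = n * (x * n⁻¹ * x⁻¹) := by rw [hw]; group
    rw [h1]
    exact N.mul_mem hn (hNn.conj_mem _ (N.inv_mem hn) x)
  have hw1 : (1 : G) = w := hinj 1 (one_mem_J α) w ⟨hwodd, hwinv⟩ (by simpa using hwN)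
  have h1 : n * x * n⁻¹ = x := by rw [hwx, ← hw1, one_mul]
  calc x * n = (n * x * n⁻¹) * n := by rw [h1]
    _ = n * x := by group

end

end Cfsg.Agent.H481.Inv
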